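import Mathlib
import Cfsg.Agent.ThreePrime.SzDataExists
import Cfsg.Agent.FastGrp
import Cfsg.Agent.Prune
set_option linter.all false

section
prune_inst 0x7ffcfffbeff88ddfdfff7e7fffdfdffffcfdffffffffffcbfffce1ffefff6b0afde56b8d9ffb58ff1ff7e2b6b0f87bd3fbfffeffef6ffc7ffffdfff45ffbffcfedf7bf8951d6883e1fbe0ff703f07fce7f3fffffffffffffffffffffffffffbeffffffffffff

-- part: RuRed/SzRelMore
section
prune_inst 0x1000000000000000000000000000000000000000200000000000000000440000002000000000800008000040001000000000000000000800000000000000020010400000000000000000000000000000000000000000000000000000000000000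
set_option linter.all false
open scoped Cfsg.Agent.FastGrp

/-!
# More facts on `Sz(F)` from the parametrisation `SzRel.Rel`

The centre `Z` of the Sylow 2-subgroup, its order, commutators, generation, and the automorphisms centralising `Z`
or the torus.
-/

set_option autoImplicit false

open scoped commutatorElement Pointwise

namespace Cfsg.Agent.ThreePrime.SzRel

variable {J : Type*} [Group J] {F : Type*} [Field F]

namespace Rel

variable (R : Rel J F)

/-- the centre of the unipotent subgroup -/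
def Z : Subgroup J where
  carrier := {g | ∃ b : F, g = R.u 0 b}
  mul_mem' := by
    rintro g h ⟨b, rfl⟩ ⟨c, rfl⟩
    refine ⟨b + c, ?_⟩
    rw [R.u_mul]
    congr 1
    · ring
    · ring
  one_mem' := ⟨0, R.u_zero.symm⟩
  inv_mem' := by
    rintro g ⟨b, rfl⟩
    refine ⟨b, ?_⟩
    rw [R.u_inv]
    congr 1
    ring

theorem mem_Z (g : J) : g ∈ R.Z ↔ ∃ b : F, g = R.u 0 b := Iff.rfl

theorem Z_le_T : R.Z ≤ R.T := by
  rintro g ⟨b, rfl⟩
  exact R.u_mem 0 b

theorem u_zero_mem_Z (b : F) : R.u 0 b ∈ R.Z := ⟨b, rfl⟩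

theorem mem_Z_iff {x : J} (hx : x ∈ R.T) : x ∈ R.Z ↔ x * x = 1 := by
  obtain ⟨a, b, rfl⟩ := hx
  rw [R.u_sq_iff]
  constructor
  · rintro ⟨c, h⟩
    exact (R.u_inj h).1
  · rintro rfl
    exact R.u_zero_mem_Z b

theorem Z_central {z x : J} (hz : z ∈ R.Z) (hx : x ∈ R.T) : z * x = x * z := by
  obtain ⟨b, rfl⟩ := hz
  obtain ⟨c, e, rfl⟩ := hx
  rw [R.comm_iff, map_zero]
  ring

theorem sq_mem_Z {x : J} (hx : x ∈ R.T) : x * x ∈ R.Z := by
  obtain ⟨a, b, rfl⟩ := hx
  rw [R.u_mul_self]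
  exact R.u_zero_mem_Z _

theorem commutator_u (a b c e : F) : ⁅R.u a b, R.u c e⁆ = R.u 0 (a * R.θ c + c * R.θ a) := by
  rw [commutatorElement_def, R.u_mul, R.u_inv, R.u_mul, R.u_inv, R.u_mul]
  congr 1
  · linear_combination (a + c) * R.two
  · linear_combination (b + e + a * R.θ a + c * R.θ c + a * R.θ c) * R.two

theorem commutator_mem_Z {x y : J} (hx : x ∈ R.T) (hy : y ∈ R.T) : ⁅x, y⁆ ∈ R.Z := by
  obtain ⟨a, b, rfl⟩ := hx
  obtain ⟨c, e, rfl⟩ := hy
  rw [R.commutator_u]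
  exact R.u_zero_mem_Z _

theorem card_Z : Nat.card R.Z = Nat.card F := by
  symm
  refine Nat.card_congr (Equiv.ofBijective (fun b : F => (⟨R.u 0 b, R.u_zero_mem_Z b⟩ : R.Z)) ⟨?_, ?_⟩)
  · intro b c h
    exact (R.u_inj (congrArg Subtype.val h)).2
  · rintro ⟨g, b, rfl⟩
    exact ⟨b, rfl⟩

theorem card_T : Nat.card R.T = Nat.card F * Nat.card F := by
  rw [← Nat.card_prod]
  symm
  refine Nat.card_congr (Equiv.ofBijective (fun p : F × F => (⟨R.u p.1 p.2, R.u_mem _ _⟩ : R.T)) ⟨?_, ?_⟩)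
  · intro p q h
    have := R.u_inj (congrArg Subtype.val h)
    exact Prod.ext this.1 this.2
  · rintro ⟨g, a, b, rfl⟩
    exact ⟨(a, b), rfl⟩

theorem Z_eq [Finite F] (h8 : 8 ≤ Nat.card F) : R.Z = ⁅R.T, R.T⁆ := by
  rw [R.comm_eq h8]
  ext x
  rw [R.mem_center_iff h8]
  exact Iff.rfl

/-- elements outside `Z` have at least three different nontrivial commutators; we record two. -/
theorem exists_two_comm [Finite F] (h8 : 8 ≤ Nat.card F) {x : J} (hx : x ∈ R.T) (hxZ : x ∉ R.Z) :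
    ∃ y ∈ R.T, ∃ y' ∈ R.T, ⁅x, y⁆ ≠ 1 ∧ ⁅x, y'⁆ ≠ 1 ∧ ⁅x, y⁆ ≠ ⁅x, y'⁆ := by
  classical
  obtain ⟨a, b, rfl⟩ := hx
  have ha : a ≠ 0 := by
    rintro rfl
    exact hxZ (R.u_zero_mem_Z b)
  have ht : R.θ a ≠ 0 := fun h' => ha ((map_eq_zero R.θ).mp h')
  have key : ∀ c : F, a * R.θ c + c * R.θ a = 0 → c = 0 ∨ c = a := by
    intro c h
    have h3 : R.θ (c / a) = c / a := by
      rw [map_div₀, div_eq_div_iff ht ha]
      linear_combination h - (c * R.θ a) * R.two
    rcases R.fix_theta h3 with h4 | h4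
    · left
      rcases div_eq_zero_iff.mp h4 with h5 | h5
      · exact h5
      · exact absurd h5 ha
    · right
      exact (div_eq_one_iff_eq ha).mp h4
  obtain ⟨c, hc⟩ := exists_not_mem h8 ({0, a} : Finset F) (by
    calc ({0, a} : Finset F).card ≤ 2 := Finset.card_le_two
      _ ≤ 7 := by norm_num)
  obtain ⟨c', hc'⟩ := exists_not_mem h8 ({0, a, c, c + a} : Finset F) (by
    calc ({0, a, c, c + a} : Finset F).card ≤ 4 := Finset.card_le_four
      _ ≤ 7 := by norm_num)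
  simp only [Finset.mem_insert, Finset.mem_singleton, not_or] at hc hc'
  refine ⟨R.u c 0, R.u_mem _ _, R.u c' 0, R.u_mem _ _, ?_, ?_, ?_⟩
  · rw [R.commutator_u, ← R.u_zero]
    intro h
    rcases key c (R.u_inj h).2 with h1 | h1
    · exact hc.1 h1
    · exact hc.2 h1
  · rw [R.commutator_u, ← R.u_zero]
    intro h
    rcases key c' (R.u_inj h).2 with h1 | h1
    · exact hc'.1 h1
    · exact hc'.2.1 h1
  · rw [R.commutator_u, R.commutator_u]
    intro h
    have h1 := (R.u_inj h).2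
    have h2 : a * R.θ (c + c') + (c + c') * R.θ a = 0 := by
      rw [map_add]
      linear_combination h1 + (a * R.θ c' + c' * R.θ a) * R.two
    rcases key _ h2 with h3 | h3
    · apply hc'.2.2.1
      linear_combination h3 - c * R.two
    · apply hc'.2.2.2
      linear_combination h3 - c * R.two

theorem conj_d_pow_w (k : Fˣ) : R.w * R.d k * R.w = (R.d k)⁻¹ := by
  rw [R.w_mul_d, mul_assoc, R.w_mul_w, mul_one, R.d_inv]

theorem w_ne_one : R.w ≠ 1 := by
  intro h
  apply R.w_ne 0 0 1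
  rw [h, R.u_zero, R.d_one, one_mul]

/-- a subgroup containing the Borel subgroup and a further element is everything -/
theorem eq_top_of_le {H : Subgroup J} (hT : R.T ≤ H) (hD : R.D ≤ H) {g : J} (hg : g ∈ H)
    (hg' : g ∉ Subgroup.normalizer (R.T : Set J)) : H = ⊤ := by
  have hw : R.w ∈ H := by
    rcases R.bruhat g with ⟨a, b, k, h⟩ | ⟨a, b, c, e, k, h⟩
    · exact absurd (by rw [h]; exact R.ud_mem_normalizer a b k) hg'
    · have h1 : R.w = (R.u a b)⁻¹ * g * (R.u c e * R.d k)⁻¹ := by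
        rw [h]; group
      rw [h1]
      exact mul_mem (mul_mem (inv_mem (hT (R.u_mem _ _))) hg)
        (inv_mem (mul_mem (hT (R.u_mem _ _)) (hD (R.d_mem _))))
  rw [eq_top_iff]
  intro x _
  rcases R.bruhat x with ⟨a, b, k, h⟩ | ⟨a, b, c, e, k, h⟩
  · rw [h]
    exact mul_mem (hT (R.u_mem _ _)) (hD (R.d_mem _))
  · rw [h]
    exact mul_mem (mul_mem (hT (R.u_mem _ _)) hw) (mul_mem (hT (R.u_mem _ _)) (hD (R.d_mem _)))

/-- the centraliser of a torus element in the whole group -/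
theorem cent_d [Finite F] {k : Fˣ} (hk : k ≠ 1) {g : J} (hg : g * R.d k = R.d k * g) : g ∈ R.D := by
  rcases R.bruhat g with ⟨a, b, l, h⟩ | ⟨a, b, c, e, l, h⟩
  · -- g = u a b * d l
    have h1 : R.d k * R.u a b * (R.d k)⁻¹ = R.u a b := by
      have h2 : R.d k * g * (R.d k)⁻¹ = g := by rw [← hg]; group
      have h3 : R.d k * g * (R.d k)⁻¹ = R.d k * R.u a b * (R.d k)⁻¹ * R.d l := by
        rw [h]
        have : R.d k * R.d l = R.d l * R.d k := by rw [R.d_mul, R.d_mul, mul_comm]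
        calc R.d k * (R.u a b * R.d l) * (R.d k)⁻¹ = R.d k * R.u a b * (R.d k)⁻¹ * (R.d k * R.d l) * (R.d k)⁻¹ := by
              group
          _ = R.d k * R.u a b * (R.d k)⁻¹ * R.d l := by rw [this]; group
      rw [h3, h] at h2
      exact mul_right_cancel h2
    rcases R.fpf h1 with h2 | ⟨h2, h3⟩
    · exact absurd h2 hk
    · rw [h, h2, h3, R.u_zero, one_mul]
      exact R.d_mem l
  · -- g = u a b * w * (u c e * d l): impossible
    exfalso
    have hL : R.d k * g = R.u (a * k ^ 2 * (R.θ k)⁻¹) (b * R.θ k) * R.w *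
        (R.u (c * (k⁻¹ : Fˣ) ^ 2 * (R.θ (k⁻¹ : Fˣ))⁻¹) (e * R.θ (k⁻¹ : Fˣ)) * R.d (k⁻¹ * l)) := by
      have e1 : R.d k * R.w = R.w * R.d k⁻¹ := by rw [R.w_mul_d, inv_inv]
      calc R.d k * g = (R.d k * R.u a b) * R.w * (R.u c e * R.d l) := by rw [h]; group
        _ = R.u (a * k ^ 2 * (R.θ k)⁻¹) (b * R.θ k) * (R.d k * R.w) * (R.u c e * R.d l) := by
            rw [R.d_mul_u]; group
        _ = R.u (a * k ^ 2 * (R.θ k)⁻¹) (b * R.θ k) * R.w * ((R.d k⁻¹ * R.u c e) * R.d l) := by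
            rw [e1]; group
        _ = _ := by rw [R.d_mul_u, mul_assoc (R.u _ _) (R.d k⁻¹), R.d_mul]
    have hR : g * R.d k = R.u a b * R.w * (R.u c e * R.d (l * k)) := by
      rw [h, mul_assoc, mul_assoc (R.u c e), R.d_mul]
    rw [hL, hR] at hg
    set a' := a * k ^ 2 * (R.θ k)⁻¹
    set b' := b * R.θ k
    set c' := c * (k⁻¹ : Fˣ) ^ 2 * (R.θ (k⁻¹ : Fˣ))⁻¹
    set e' := e * R.θ (k⁻¹ : Fˣ)
    obtain ⟨p, q, hpq⟩ : ∃ p q, (R.u a' b')⁻¹ * R.u a b = R.u p q := by
      have := mul_mem (inv_mem (R.u_mem a' b')) (R.u_mem a b)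
      exact this
    have h6 : R.w * R.u p q * R.w = (R.u c' e' * R.d (k⁻¹ * l)) * (R.u c e * R.d (l * k))⁻¹ := by
      rw [← hpq, eq_mul_inv_iff_mul_eq]
      calc R.w * ((R.u a' b')⁻¹ * R.u a b) * R.w * (R.u c e * R.d (l * k))
          = R.w * (R.u a' b')⁻¹ * (R.u a b * R.w * (R.u c e * R.d (l * k))) := by group
        _ = R.w * (R.u a' b')⁻¹ * (R.u a' b' * R.w * (R.u c' e' * R.d (k⁻¹ * l))) := by rw [hg]
        _ = (R.w * R.w) * (R.u c' e' * R.d (k⁻¹ * l)) := by group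
        _ = R.u c' e' * R.d (k⁻¹ * l) := by rw [R.w_mul_w, one_mul]
    have h7 : ∃ x y m, (R.u c' e' * R.d (k⁻¹ * l)) * (R.u c e * R.d (l * k))⁻¹ = R.u x y * R.d m := by
      refine ⟨c' + c * (k⁻¹ * l * (l * k)⁻¹ : Fˣ) ^ 2 * (R.θ (k⁻¹ * l * (l * k)⁻¹ : Fˣ))⁻¹,
        e' + (e + c * R.θ c) * R.θ (k⁻¹ * l * (l * k)⁻¹ : Fˣ) +
          c' * R.θ (c * (k⁻¹ * l * (l * k)⁻¹ : Fˣ) ^ 2 * (R.θ (k⁻¹ * l * (l * k)⁻¹ : Fˣ))⁻¹),
        k⁻¹ * l * (l * k)⁻¹, ?_⟩
      rw [_root_.mul_inv_rev, R.d_inv, R.u_inv]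
      calc R.u c' e' * R.d (k⁻¹ * l) * (R.d (l * k)⁻¹ * R.u c (e + c * R.θ c))
          = R.u c' e' * ((R.d (k⁻¹ * l) * R.d (l * k)⁻¹) * R.u c (e + c * R.θ c)) := by group
        _ = R.u c' e' * (R.d (k⁻¹ * l * (l * k)⁻¹) * R.u c (e + c * R.θ c)) := by rw [R.d_mul]
        _ = _ := by rw [R.d_mul_u, ← mul_assoc, R.u_mul]
    obtain ⟨x, y, m, h8⟩ := h7
    rw [h8] at h6
    obtain ⟨rfl, rfl⟩ := R.inter _ _ _ _ _ h6
    rw [R.u_zero] at hpq
    have h9 : R.u a b = R.u a' b' := (inv_mul_eq_one.mp hpq).symm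
    rw [h9] at hg
    have h10 := mul_left_cancel hg
    have h11 := (R.ud_inj h10).2.2
    have h12 : k * k = 1 := by
      have : l * k = k⁻¹ * l := h11
      rw [mul_comm (k⁻¹) l] at this
      have := mul_left_cancel this
      exact eq_inv_iff_mul_eq_one.mp this
    apply hk
    have h13 : (k : F) ^ 2 ^ 1 = 1 := by
      have := congrArg Units.val h12
      rw [Units.val_mul, Units.val_one] at this
      rw [pow_one, pow_two]; exact this
    exact Units.ext (by rw [Units.val_one]; exact pow_two_eq_one R h13)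

/-- centralisers in `J` of nontrivial elements of `Z` are in `T` -/
theorem mem_T_of_comm_Z {z g : J} (hz : z ∈ R.Z) (hz1 : z ≠ 1) (h : g * z = z * g) : g ∈ R.T := by
  have hzT := R.Z_le_T hz
  have h1 : g * z * g⁻¹ = z := by rw [h]; group
  obtain ⟨a, b, k, rfl⟩ := R.exists_ud hzT hz1 (by rw [h1]; exact hzT)
  obtain ⟨c, rfl⟩ := hz
  have hc : c ≠ 0 := by
    rintro rfl
    exact hz1 R.u_zero
  have h2 : (R.u a b * R.d k) * R.u 0 c * (R.u a b * R.d k)⁻¹ = R.u a b * (R.d k * R.u 0 c * (R.d k)⁻¹) * (R.u a b)⁻¹ := by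
    group
  rw [h2, R.conj_d, R.conj_u] at h1
  have h3 := (R.u_inj h1).2
  have h4 : c * R.θ k = c := by
    simpa using h3
  have h5 : R.θ k = 1 := by
    apply mul_left_cancel₀ hc
    rw [h4, mul_one]
  have h6 : (k : F) = 1 := by
    apply R.θ.injective
    rw [h5, map_one]
  have h7 : k = 1 := Units.ext h6
  rw [h7, R.d_one, mul_one]
  exact R.u_mem a b

/-- a nontrivial element of `T` has its centraliser in `T` -/
theorem mem_T_of_comm {x g : J} (hx : x ∈ R.T) (hx1 : x ≠ 1) (h : g * x = x * g) : g ∈ R.T := by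
  by_cases hxx : x * x = 1
  · exact R.mem_T_of_comm_Z ((R.mem_Z_iff hx).2 hxx) hx1 h
  · refine R.mem_T_of_comm_Z (R.sq_mem_Z hx) hxx ?_
    rw [← mul_assoc, h, mul_assoc, h, mul_assoc]

include R in
theorem center_trivial {g : J} (h : ∀ x : J, g * x = x * g) : g = 1 := by
  have h1 : g ∈ R.T := R.mem_T_of_comm_Z (R.u_zero_mem_Z 1) (R.u_ne_one one_ne_zero) (h _)
  by_contra hg
  have h2 := R.mem_T_of_comm h1 hg (h R.w).symm
  apply R.w_not_mem_normalizer
  obtain ⟨a, b, h3⟩ := h2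
  rw [h3]
  have := R.ud_mem_normalizer a b 1
  rwa [R.d_one, mul_one] at this

theorem mul_theta_inj {a a' : F} (h : a * R.θ a = a' * R.θ a') : a = a' := by
  by_cases ha : a = 0
  · subst ha
    rw [zero_mul] at h
    rcases mul_eq_zero.mp h.symm with h1 | h1
    · exact h1.symm
    · exact ((map_eq_zero R.θ).mp h1).symm
  · by_cases ha' : a' = 0
    · subst ha'
      rw [zero_mul] at h
      rcases mul_eq_zero.mp h with h1 | h1
      · exact h1
      · exact (map_eq_zero R.θ).mp h1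
    · have ht : R.θ a' ≠ 0 := fun h' => ha' ((map_eq_zero R.θ).mp h')
      set c := a / a' with hc
      have hc0 : c ≠ 0 := div_ne_zero ha ha'
      have h1 : c * R.θ c = 1 := by
        rw [hc, map_div₀]
        field_simp
        exact h
      have h2 : R.θ c * R.θ (R.θ c) = 1 := by
        rw [← map_mul, h1, map_one]
      rw [R.sq] at h2
      have h3 : c = 1 := by linear_combination (- c) * h1 + h2
      rw [hc, div_eq_one_iff_eq ha'] at h3
      exact h3

section aut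

variable [Finite J] [Fintype F] {m : ℕ}

/-- an automorphism centralising `Z` is conjugation by an element of `T` -/
theorem aut_cent_Z (hm : 1 ≤ m) (hF : Fintype.card F = 2 ^ (2 * m + 1)) (φ : MulAut J)
    (hφ : ∀ z ∈ R.Z, φ z = z) : ∃ t ∈ R.T, φ = MulAut.conj t := by
  have hpow : ∀ (ψ : MulAut J), (∀ z ∈ R.Z, ψ z = z) → ∀ n : ℕ, ∀ z ∈ R.Z, (ψ ^ n) z = z := by
    intro ψ hψ n
    induction n with
    | zero => intro z _; rfl
    | succ n ih =>
      intro z hz
      rw [pow_succ, MulAut.mul_apply, hψ z hz, ih z hz]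
  -- split `φ`
  obtain ⟨n, q, hq, hn⟩ : ∃ n q : ℕ, Odd q ∧ orderOf φ = 2 ^ n * q := by
    have h0 : orderOf φ ≠ 0 := (orderOf_pos φ).ne'
    obtain ⟨n, q, hq, h⟩ := Nat.exists_eq_two_pow_mul_odd h0
    exact ⟨n, q, hq, h⟩
  -- the odd part
  have key : ∀ γ : MulAut J, (∀ z ∈ R.Z, γ z = z) → Odd (orderOf γ) → γ = 1 := by
    intro γ hγ hodd
    refine R.cent hm hF γ hodd ?_
    have hT : ∀ x ∈ R.T, γ x ∈ R.T := by
      intro x hx
      refine R.mem_T_of_comm_Z (R.u_zero_mem_Z 1) (R.u_ne_one one_ne_zero) ?_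
      have h1 := R.Z_central (R.u_zero_mem_Z 1) hx
      have h2 := congrArg γ h1
      rw [map_mul, map_mul, hγ _ (R.u_zero_mem_Z 1)] at h2
      exact h2.symm
    have hx : ∀ x ∈ R.T, ∃ z ∈ R.Z, γ x = x * z := by
      intro x hx
      have h1 : γ x * γ x = x * x := by rw [← map_mul, hγ _ (R.sq_mem_Z hx)]
      obtain ⟨a, b, rfl⟩ := hx
      obtain ⟨c, e, h2⟩ := hT _ (R.u_mem a b)
      rw [h2, R.u_mul_self, R.u_mul_self] at h1
      have h3 := R.mul_theta_inj (R.u_inj h1).2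
      refine ⟨(R.u a b)⁻¹ * R.u c e, ?_, by rw [h2, mul_inv_cancel_left]⟩
      rw [R.u_inv, R.u_mul, h3]
      refine ⟨_, congrArg₂ R.u ?_ rfl⟩
      exact R.add_self a
    intro x hxT
    obtain ⟨z, hz, h1⟩ := hx x hxT
    have h2 : ∀ k : ℕ, (γ ^ k) x = x * z ^ k := by
      intro k
      induction k with
      | zero => simp
      | succ k ih =>
        rw [pow_succ', MulAut.mul_apply, ih, map_mul, h1, map_pow, hγ z hz, mul_assoc, ← pow_succ']
    have h3 := h2 (orderOf γ)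
    rw [pow_orderOf_eq_one] at h3
    have h4 : z ^ orderOf γ = 1 := by
      have : x = x * z ^ orderOf γ := h3
      exact (mul_eq_left.mp this.symm)
    have h5 : z ^ 2 = 1 := by
      rw [pow_two]
      exact (R.mem_Z_iff (R.Z_le_T hz)).1 hz
    have h6 : z = 1 := by
      have h7 : orderOf z ∣ 2 := orderOf_dvd_of_pow_eq_one h5
      have h8 : orderOf z ∣ orderOf γ := orderOf_dvd_of_pow_eq_one h4
      have h9 : Nat.Coprime 2 (orderOf γ) := (Nat.coprime_two_left).2 hodd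
      have h10 : orderOf z ∣ 1 := by
        rw [← h9]
        exact Nat.dvd_gcd h7 h8
      exact orderOf_eq_one_iff.mp (Nat.dvd_one.mp h10)
    rw [h1, h6, mul_one]
  have hco : Nat.Coprime (2 ^ n) q := Nat.Coprime.pow_left n ((Nat.coprime_two_left).2 hq)
  -- the 2-part: `φ ^ q` has order a power of two
  obtain ⟨j, hj⟩ := R.inner hm hF (φ ^ q) ⟨n, by rw [← pow_mul, mul_comm, ← hn, pow_orderOf_eq_one]⟩
  have hjT : j ∈ R.T := by
    refine R.mem_T_of_comm_Z (R.u_zero_mem_Z 1) (R.u_ne_one one_ne_zero) ?_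
    have h1 := hpow φ hφ q _ (R.u_zero_mem_Z 1)
    rw [hj, MulAut.conj_apply] at h1
    exact mul_inv_eq_iff_eq_mul.mp h1
  have h1 : φ ^ (2 ^ n) = 1 := by
    refine key _ (hpow φ hφ _) ?_
    refine Odd.of_dvd_nat hq ?_
    apply orderOf_dvd_of_pow_eq_one
    rw [← pow_mul, ← hn, pow_orderOf_eq_one]
  -- so `φ` has order a power of two and is a power of `φ ^ q`
  have h2 : orderOf φ ∣ 2 ^ n := orderOf_dvd_of_pow_eq_one h1
  obtain ⟨j', hj'⟩ := R.inner hm hF φ ⟨n, h1⟩
  refine ⟨j', ?_, hj'⟩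
  refine R.mem_T_of_comm_Z (R.u_zero_mem_Z 1) (R.u_ne_one one_ne_zero) ?_
  have h3 := hφ _ (R.u_zero_mem_Z 1)
  rw [hj', MulAut.conj_apply] at h3
  exact mul_inv_eq_iff_eq_mul.mp h3

end aut

/-- two different Sylow 2-subgroups generate `J` (if `J` is simple) -/
theorem sup_eq_top [IsSimpleGroup J] {H : Subgroup J} {g : J} (h1 : R.T ≤ H) (h2 : ∀ x ∈ R.T, g * x * g⁻¹ ∈ H)
    (hg : g ∉ Subgroup.normalizer (R.T : Set J)) : H = ⊤ := by
  -- `w T w ≤ H`
  have hw : ∀ x ∈ R.T, R.w * x * R.w ∈ H := by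
    rcases R.bruhat g with ⟨a, b, k, h⟩ | ⟨a, b, c, e, k, h⟩
    · exact absurd (by rw [h]; exact R.ud_mem_normalizer a b k) hg
    · intro x hx
      have hn := R.ud_mem_normalizer c e k
      have hx' : (R.u c e * R.d k)⁻¹ * x * (R.u c e * R.d k) ∈ R.T := by
        have := (Subgroup.mem_normalizer_iff.1 hn ((R.u c e * R.d k)⁻¹ * x * (R.u c e * R.d k))).2
        apply this
        have e1 : (R.u c e * R.d k) * ((R.u c e * R.d k)⁻¹ * x * (R.u c e * R.d k)) * (R.u c e * R.d k)⁻¹ = x := by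
          group
        rw [e1]; exact hx
      have h3 := h2 _ hx'
      have h4 : R.w * x * R.w = (R.u a b)⁻¹ * (g * ((R.u c e * R.d k)⁻¹ * x * (R.u c e * R.d k)) * g⁻¹) * R.u a b := by
        rw [h]
        simp only [_root_.mul_inv_rev, R.w_inv]
        group
      rw [h4]
      exact mul_mem (mul_mem (inv_mem (h1 (R.u_mem _ _))) h3) (h1 (R.u_mem _ _))
  -- the subgroup generated by the two
  let L : Subgroup J := Subgroup.closure {x | x ∈ R.T ∨ R.w * x * R.w ∈ R.T}
  have hLH : L ≤ H := by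
    rw [Subgroup.closure_le]
    rintro x (hx | hx)
    · exact h1 hx
    · have := hw _ hx
      have e1 : R.w * (R.w * x * R.w) * R.w = x := by
        calc R.w * (R.w * x * R.w) * R.w = (R.w * R.w) * x * (R.w * R.w) := by group
          _ = x := by rw [R.w_mul_w, one_mul, mul_one]
      rw [e1] at this
      exact this
  have hconj : ∀ y : J, (∀ x, (x ∈ R.T ∨ R.w * x * R.w ∈ R.T) → y * x * y⁻¹ ∈ L) → ∀ x ∈ L, y * x * y⁻¹ ∈ L := by
    intro y hy x hx
    induction hx using Subgroup.closure_induction with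
    | mem x hx => exact hy x hx
    | one => simp
    | mul a b _ _ ha hb =>
      have : y * (a * b) * y⁻¹ = (y * a * y⁻¹) * (y * b * y⁻¹) := by group
      rw [this]; exact mul_mem ha hb
    | inv a _ ha =>
      have : y * a⁻¹ * y⁻¹ = (y * a * y⁻¹)⁻¹ := by group
      rw [this]; exact inv_mem ha
  have hTL : ∀ x ∈ R.T, x ∈ L := fun x hx => Subgroup.subset_closure (Or.inl hx)
  have hwL : ∀ x ∈ R.T, R.w * x * R.w ∈ L := by
    intro x hx
    refine Subgroup.subset_closure (Or.inr ?_)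
    have e1 : R.w * (R.w * x * R.w) * R.w = x := by
      calc R.w * (R.w * x * R.w) * R.w = (R.w * R.w) * x * (R.w * R.w) := by group
        _ = x := by rw [R.w_mul_w, one_mul, mul_one]
    rw [e1]; exact hx
  have hTn : ∀ y ∈ R.T, ∀ x ∈ L, y * x * y⁻¹ ∈ L := fun y hy x hx =>
    mul_mem (mul_mem (hTL y hy) hx) (inv_mem (hTL y hy))
  have hwn : ∀ x ∈ L, R.w * x * (R.w)⁻¹ ∈ L := by
    refine hconj R.w ?_
    rintro x (hx | hx)
    · rw [R.w_inv]; exact hwL x hx
    · rw [R.w_inv]; exact hTL _ hx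
  have hdn : ∀ k, ∀ x ∈ L, R.d k * x * (R.d k)⁻¹ ∈ L := by
    intro k
    refine hconj _ ?_
    rintro x (hx | hx)
    · refine hTL _ ?_
      exact (Subgroup.mem_normalizer_iff.1 (R.D_le (R.d_mem k)) _).1 hx
    · refine Subgroup.subset_closure (Or.inr ?_)
      have e1 : R.w * (R.d k * x * (R.d k)⁻¹) * R.w = R.d k⁻¹ * (R.w * x * R.w) * (R.d k⁻¹)⁻¹ := by
        have e2 : R.w * R.d k = R.d k⁻¹ * R.w := R.w_mul_d k
        have e3 : (R.d k)⁻¹ * R.w = R.w * (R.d k⁻¹)⁻¹ := by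
          rw [R.d_inv, R.d_inv, inv_inv, R.w_mul_d]
        calc R.w * (R.d k * x * (R.d k)⁻¹) * R.w = (R.w * R.d k) * x * ((R.d k)⁻¹ * R.w) := by group
          _ = _ := by rw [e2, e3]; group
      rw [e1]
      exact (Subgroup.mem_normalizer_iff.1 (R.D_le (R.d_mem k⁻¹)) _).1 hx
  have hLn : L.Normal := by
    refine ⟨fun x hx g => ?_⟩
    rcases R.bruhat g with ⟨a, b, k, h⟩ | ⟨a, b, c, e, k, h⟩
    · have : g * x * g⁻¹ = R.u a b * (R.d k * x * (R.d k)⁻¹) * (R.u a b)⁻¹ := by rw [h]; group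
      rw [this]
      exact hTn _ (R.u_mem _ _) _ (hdn _ _ hx)
    · have : g * x * g⁻¹ = R.u a b * (R.w * (R.u c e * (R.d k * x * (R.d k)⁻¹) * (R.u c e)⁻¹) * (R.w)⁻¹) * (R.u a b)⁻¹ := by
        rw [h]; group
      rw [this]
      exact hTn _ (R.u_mem _ _) _ (hwn _ (hTn _ (R.u_mem _ _) _ (hdn _ _ hx)))
  rcases hLn.eq_bot_or_eq_top with h | h
  · exfalso
    have h3 : R.u 0 1 ∈ L := hTL _ (R.u_mem 0 1)
    rw [h, Subgroup.mem_bot] at h3
    exact R.u_ne_one one_ne_zero h3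
  · rw [eq_top_iff, ← h]
    exact hLH

end Rel

end Cfsg.Agent.ThreePrime.SzRel
end

-- part: H322/Tri/Suz
section
prune_inst 0x432202000018000200000010000000000003000011a00100000e5021a902260048000e00011000600000000000000009001000002000020040010120800260820300000407008f80f803100000000000000000000000000000041000000000000
set_option linter.all false
open scoped Cfsg.Agent.FastGrp

/-!
# No transitive extension of the Suzuki groups

`suz_false`: in a 2-transitive group of even degree, no point stabiliser has a normal subgroup isomorphic to a Suzuki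
group acting primitively on the remaining points.
-/

set_option autoImplicit false

namespace Cfsg.Agent.H322.Tri

open Subgroup MulAction
open Cfsg.Agent.ThreePrime

open scoped Pointwise in
theorem exists_rel_sylow {J : Type*} [Group J] [Finite J] (h : Cfsg.Lie.IsoSuzuki J) (P : Sylow 2 J) :
    ∃ (F : Type) (_ : Field F) (_ : Fintype F) (R : SzRel.Rel J F), 8 ≤ Nat.card F ∧ R.T = (P : Subgroup J) := by
  have : Fact (Nat.Prime 2) := ⟨Nat.prime_two⟩
  obtain ⟨F, iF, iF', m, hm, hF, ⟨R₀⟩⟩ := SzRel.exists_rel h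
  have h8 : 8 ≤ Nat.card F := by
    rw [Nat.card_eq_fintype_card, hF]
    exact SzRel.Rel.eight_le hm
  obtain ⟨P₀, hP₀⟩ := R₀.exists_sylow_eq hm hF
  obtain ⟨g, hg⟩ := MulAction.exists_smul_eq J P₀ P
  let R : SzRel.Rel J F := R₀.map (MulAut.conj g)
  have hT : R.T = (P : Subgroup J) := by
    rw [← hg]
    ext x
    rw [Sylow.coe_subgroup_smul, Subgroup.mem_pointwise_smul_iff_inv_smul_mem, hP₀]
    constructor
    · rintro ⟨a, b, rfl⟩
      refine ⟨a, b, ?_⟩
      show (MulAut.conj g)⁻¹ (MulAut.conj g (R₀.u a b)) = _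
      rw [MulAut.inv_apply_self]
    · rintro ⟨a, b, hx⟩
      refine ⟨a, b, ?_⟩
      show x = MulAut.conj g (R₀.u a b)
      rw [← hx]
      show x = MulAut.conj g ((MulAut.conj g)⁻¹ x)
      rw [MulAut.apply_inv_self]
  exact ⟨F, iF, iF', R, h8, hT⟩

/-- a `2`-element of a subgroup of odd index lies in a Sylow `2`-subgroup contained in the subgroup -/
theorem exists_sylow_of_mem {J : Type*} [Group J] [Finite J] {K : Subgroup J} (hK : ¬ 2 ∣ K.index) {z : J}
    (hz : z ∈ K) {k : ℕ} (hzk : z ^ 2 ^ k = 1) : ∃ Q : Sylow 2 J, z ∈ (Q : Subgroup J) ∧ (Q : Subgroup J) ≤ K := by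
  have : Fact (Nat.Prime 2) := ⟨Nat.prime_two⟩
  have hp : IsPGroup 2 (zpowers (⟨z, hz⟩ : K)) := by
    rintro ⟨y, hy⟩
    obtain ⟨i, rfl⟩ := mem_zpowers_iff.1 hy
    refine ⟨k, Subtype.ext (Subtype.ext ?_)⟩
    change (z ^ i) ^ 2 ^ k = 1
    rw [← zpow_natCast, ← zpow_mul, mul_comm, zpow_mul, zpow_natCast, hzk, one_zpow]
  obtain ⟨Q₀, hQ₀⟩ := hp.exists_le_sylow
  have h1 : IsPGroup 2 ((Q₀ : Subgroup K).map K.subtype) := Q₀.2.map _
  have h2 : ¬ 2 ∣ ((Q₀ : Subgroup K).map K.subtype).index := by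
    rw [Subgroup.index_map_subtype]
    intro h
    rcases (Nat.Prime.dvd_mul Nat.prime_two).1 h with h | h
    · exact Q₀.not_dvd_index h
    · exact hK h
  refine ⟨h1.toSylow h2, ?_, ?_⟩
  · exact ⟨⟨z, hz⟩, hQ₀ (mem_zpowers _), rfl⟩
  · exact map_subtype_le _

section

variable {G Ω : Type*} [Group G] [Finite G] [MulAction G Ω] [FaithfulSMul G Ω] [Finite Ω]

/-- **No Suzuki group in the stabiliser of a point of a 2-transitive group of even degree.** -/
theorem suz_false (h2 : ∀ a b c d : Ω, a ≠ b → c ≠ d → ∃ g : G, g • a = c ∧ g • b = d)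
    (hev : Even (Nat.card Ω)) (hcard : 2 < Nat.card Ω) {a : Ω} {J : Subgroup G} [IsSimpleGroup J]
    (hSz : Cfsg.Lie.IsoSuzuki J) (hfix : ∀ x ∈ J, x • a = a)
    (hinv : ∀ g : G, g • a = a → ∀ x ∈ J, g * x * g⁻¹ ∈ J)
    (htr : ∀ b c : Ω, b ≠ a → c ≠ a → ∃ x ∈ J, x • b = c)
    (hmax : ∀ b : Ω, b ≠ a → ∀ K : Subgroup J, stabilizer J b ≤ K → K = stabilizer J b ∨ K = ⊤) : False := by
  classical
  have : Fact (Nat.Prime 2) := ⟨Nat.prime_two⟩
  have := Fintype.ofFinite Ω
  -- the index of the stabiliser of `c` in `J`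
  have hindex : ∀ c : Ω, c ≠ a → (stabilizer J c).index + 1 = Nat.card Ω := by
    intro c hc
    rw [MulAction.index_stabilizer]
    have h1 : MulAction.orbit J c = {x : Ω | x ≠ a} := by
      ext x
      rw [MulAction.mem_orbit_iff]
      change _ ↔ x ≠ a
      constructor
      · rintro ⟨y, rfl⟩ h4
        have h5 : (y : G) • c = (y : G) • a := h4.trans (hfix y y.2).symm
        exact hc (MulAction.injective (y : G) h5)
      · intro hx
        obtain ⟨y, hy, hyc⟩ := htr c x hc hx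
        exact ⟨⟨y, hy⟩, hyc⟩
    rw [h1]
    have h4 : ({x : Ω | x ≠ a} : Set Ω).ncard + ({x : Ω | x ≠ a}ᶜ : Set Ω).ncard = Nat.card Ω :=
      Set.ncard_add_ncard_compl _
    have h5 : ({x : Ω | x ≠ a}ᶜ : Set Ω) = {a} := by
      ext x; simp
    rw [h5, Set.ncard_singleton] at h4
    exact h4
  have hodd : ∀ c : Ω, c ≠ a → ¬ 2 ∣ (stabilizer J c).index := by
    intro c hc hd
    have h1 := hindex c hc
    rw [← h1] at hev
    exact (Nat.even_add_one.1 hev) (even_iff_two_dvd.2 hd)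
  -- a point `b ≠ a` and a Sylow subgroup fixing it
  obtain ⟨b, hba⟩ : ∃ b : Ω, b ≠ a := by
    by_contra hcon
    push Not at hcon
    have : Subsingleton Ω := ⟨fun x y => by rw [hcon x, hcon y]⟩
    have := Finite.card_le_one_iff_subsingleton.2 this
    omega
  obtain ⟨P, -, hPB⟩ := exists_sylow_of_mem (hodd b hba) (one_mem _) (k := 0) (by rw [one_pow])
  obtain ⟨F, _, _, R, h8, hT⟩ := exists_rel_sylow hSz P
  have hNe : normalizer ((P : Subgroup J) : Set J) ≠ ⊤ := by
    intro h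
    have := R.w_not_mem_normalizer
    rw [hT, h] at this
    exact this (mem_top _)
  have hBne : stabilizer J b ≠ ⊤ := by
    intro h
    have h4 := hindex b hba
    rw [h, index_top] at h4
    omega
  -- transport of Sylow subgroups
  have hconj : ∀ Q : Sylow 2 J, ∃ g : J, ∀ x : J, x ∈ (Q : Subgroup J) ↔ g⁻¹ * x * g ∈ (P : Subgroup J) := by
    intro Q
    obtain ⟨g, hg⟩ := MulAction.exists_smul_eq J P Q
    refine ⟨g, fun x => ?_⟩
    rw [← hg, Sylow.coe_subgroup_smul, Subgroup.mem_pointwise_smul_iff_inv_smul_mem]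
    rw [← MulAut.conj_symm_apply]
    rfl
  have hmemN : ∀ g : J, (∀ x ∈ (P : Subgroup J), g * x * g⁻¹ ∈ (P : Subgroup J)) →
      g ∈ normalizer ((P : Subgroup J) : Set J) := by
    intro g hg
    have h1 : ((P : Subgroup J).map (MulAut.conj g).toMonoidHom) = P := by
      apply Subgroup.eq_of_le_of_card_ge
      · rintro _ ⟨x, hx, rfl⟩
        exact hg x hx
      · exact (Nat.card_congr ((P : Subgroup J).equivMapOfInjective (MulAut.conj g).toMonoidHom
          (MulAut.conj g).injective).toEquiv).le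
    rw [mem_normalizer_iff]
    intro x
    constructor
    · exact hg x
    · intro hx
      change g * x * g⁻¹ ∈ (P : Subgroup J) at hx
      rw [← h1] at hx
      obtain ⟨y, hy, hyx⟩ := hx
      have h4 : y = x := (MulAut.conj g).injective hyx
      rw [← h4]; exact hy
  have huniq : ∀ Q : Sylow 2 J, (Q : Subgroup J) ≤ stabilizer J b → Q = P := by
    intro Q hQ
    obtain ⟨g, hg⟩ := hconj Q
    by_contra hne
    have hgN : g ∉ normalizer ((P : Subgroup J) : Set J) := by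
      intro hgN
      apply hne
      apply Sylow.ext
      ext x
      rw [hg x]
      have h4 := (mem_normalizer_iff.1 (inv_mem hgN) x)
      rw [inv_inv] at h4
      exact h4.symm
    have h5 := R.sup_eq_top (H := stabilizer J b) (g := g) (by rw [hT]; exact hPB) (by
      intro x hx
      rw [hT] at hx
      apply hQ
      rw [hg]
      have h6 : g⁻¹ * (g * x * g⁻¹) * g = x := by group
      rwa [h6]) (by rw [hT]; exact hgN)
    exact hBne h5
  have hBN : stabilizer J b ≤ normalizer ((P : Subgroup J) : Set J) := by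
    intro g hg
    apply hmemN
    intro x hx
    have h4 := huniq (g • P) (by
      rw [Sylow.coe_subgroup_smul]
      rintro _ ⟨y, hy, rfl⟩
      exact mul_mem (mul_mem hg (hPB hy)) (inv_mem hg))
    have h5 : g * x * g⁻¹ ∈ ((g • P : Sylow 2 J) : Subgroup J) := by
      rw [Sylow.coe_subgroup_smul]
      exact ⟨x, hx, rfl⟩
    rwa [h4] at h5
  have hNB : normalizer ((P : Subgroup J) : Set J) = stabilizer J b := by
    rcases hmax b hba _ hBN with h | h
    · exact h
    · exact absurd h hNe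
  -- fixed points of `P`
  have hfixP : ∀ c : Ω, c ≠ a → (P : Subgroup J) ≤ stabilizer J c → c = b := by
    intro c hc hP
    obtain ⟨x, hx, hxb⟩ := htr b c hba hc
    have h4 : (⟨x, hx⟩ : J) ∈ normalizer ((P : Subgroup J) : Set J) := by
      rw [← inv_mem_iff]
      have h5 := huniq ((⟨x, hx⟩ : J)⁻¹ • P) (by
        rw [Sylow.coe_subgroup_smul]
        rintro _ ⟨y, hy, rfl⟩
        have h6 : (y : G) • c = c := hP hy
        change ((x)⁻¹ * (y : G) * (x⁻¹)⁻¹) • b = b
        rw [inv_inv, mul_smul, mul_smul, hxb, h6, ← hxb, inv_smul_smul])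
      apply hmemN
      intro y hy
      have h6 : (⟨x, hx⟩ : J)⁻¹ * y * ((⟨x, hx⟩ : J)⁻¹)⁻¹ ∈ (((⟨x, hx⟩ : J)⁻¹ • P : Sylow 2 J) : Subgroup J) := by
        rw [Sylow.coe_subgroup_smul]
        exact ⟨y, hy, rfl⟩
      rwa [h5] at h6
    rw [hNB] at h4
    have h5 : x • b = b := h4
    rw [← hxb, h5]
  have hfixz : ∀ z ∈ (P : Subgroup J), z ≠ 1 → ∀ c : Ω, (z : G) • c = c → c = a ∨ c = b := by
    intro z hz hz1 c hzc
    by_cases hca : c = a
    · exact Or.inl hca
    right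
    apply hfixP c hca
    obtain ⟨k, hk⟩ := P.2 ⟨z, hz⟩
    have hk' : z ^ 2 ^ k = 1 := congrArg Subtype.val hk
    obtain ⟨Q, hzQ, hQ⟩ := exists_sylow_of_mem (hodd c hca) (z := z) hzc hk'
    obtain ⟨g, hg⟩ := hconj Q
    have h4 : g ∈ normalizer (R.T : Set J) := by
      refine R.ti (x := g⁻¹ * z * g) ?_ ?_ ?_
      · rw [hT]; exact (hg z).1 hzQ
      · intro h5
        apply hz1
        have h6 : z = g * (g⁻¹ * z * g) * g⁻¹ := by group
        rw [h6, h5]; group
      · have h6 : g * (g⁻¹ * z * g) * g⁻¹ = z := by group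
        rw [h6, hT]; exact hz
    rw [hT] at h4
    intro x hx
    apply hQ
    rw [hg]
    have h5 := (mem_normalizer_iff.1 (inv_mem h4) x).1 hx
    rwa [inv_inv] at h5
  -- an involution of `P`
  have hZcard : 8 ≤ Nat.card R.Z := by
    have hinj : Function.Injective (fun x : F => (⟨R.u 0 x, R.u_zero_mem_Z x⟩ : R.Z)) := by
      intro x y hxy
      exact (R.u_inj (congrArg Subtype.val hxy)).2
    exact h8.trans (Nat.card_le_card_of_injective _ hinj)
  obtain ⟨z, hz1⟩ : ∃ z : R.Z, z ≠ 1 := by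
    by_contra hcon
    push Not at hcon
    have : Subsingleton R.Z := ⟨fun x y => by rw [hcon x, hcon y]⟩
    have := Finite.card_le_one_iff_subsingleton.2 this
    omega
  have hZP : ∀ x ∈ R.Z, x ∈ (P : Subgroup J) := fun x hx => hT ▸ R.Z_le_T hx
  have hZsq : ∀ x ∈ R.Z, x * x = 1 := fun x hx => (R.mem_Z_iff (R.Z_le_T hx)).1 hx
  have hz1' : (z : J) ≠ 1 := fun h => hz1 (Subtype.ext h)
  -- 2-elements of the stabiliser of `a` and `b`
  have hcentr : ∀ y : G, y • a = a → (∀ x ∈ J, y * x = x * y) → y = 1 := by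
    intro y hya hy
    have hyb : y • b = b := by
      have h4 : ((z : J) : G) • y • b = y • b := by
        rw [← mul_smul, ← hy _ (z : J).2, mul_smul]
        have h5 : ((z : J) : G) • b = b := hPB (hZP z z.2)
        rw [h5]
      rcases hfixz z (hZP z z.2) hz1' _ h4 with h5 | h5
      · exfalso
        exact hba (MulAction.injective y (h5.trans hya.symm))
      · exact h5
    apply FaithfulSMul.eq_of_smul_eq_smul (α := Ω)
    intro c
    rw [one_smul]
    by_cases hca : c = a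
    · rw [hca, hya]
    · obtain ⟨x, hx, rfl⟩ := htr b c hba hca
      rw [← mul_smul, hy x hx, mul_smul, hyb]
  obtain ⟨D, hD⟩ := SzRel.exists_szData hSz P
  have hinJ : ∀ x : G, x • a = a → (∃ k : ℕ, x ^ 2 ^ k = 1) → x ∈ J := by
    rintro x hxa ⟨k, hk⟩
    have hxn : ∀ y, y ∈ J ↔ x * y * x⁻¹ ∈ J := by
      intro y
      constructor
      · exact hinv x hxa y
      · intro hy
        have h4 := hinv x⁻¹ (by rw [inv_smul_eq_iff, hxa]) _ hy
        have h5 : x⁻¹ * (x * y * x⁻¹) * x⁻¹⁻¹ = y := by group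
        rwa [h5] at h4
    have hxN : x ∈ normalizer (J : Set G) := mem_normalizer_iff.2 hxn
    let φ : MulAut J := J.normalizerMonoidHom ⟨x, hxN⟩
    have hφ : ∀ y : J, ((φ y : J) : G) = x * y * x⁻¹ := fun y => rfl
    have hφk : φ ^ 2 ^ k = 1 := by
      have h4 : φ ^ 2 ^ k = J.normalizerMonoidHom ((⟨x, hxN⟩ : normalizer (J : Set G)) ^ 2 ^ k) := by
        rw [map_pow]
      rw [h4]
      have h5 : (⟨x, hxN⟩ : normalizer (J : Set G)) ^ 2 ^ k = 1 := Subtype.ext hk
      rw [h5, map_one]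
    obtain ⟨j, hj⟩ := hD.inner φ ⟨k, hφk⟩
    have h4 : (j : G)⁻¹ * x = 1 := by
      apply hcentr
      · rw [mul_smul, hxa, inv_smul_eq_iff, hfix j j.2]
      · intro y hy
        have h5 := hφ ⟨y, hy⟩
        rw [hj] at h5
        change (j : G) * y * (j : G)⁻¹ = x * y * x⁻¹ at h5
        have h6 : (j : G)⁻¹ * (x * y * x⁻¹) * x = y * ((j : G)⁻¹ * x) := by
          rw [← h5]; group
        rw [← h6]; group
    rw [inv_mul_eq_one] at h4
    rw [← h4]; exact j.2
  have hinP : ∀ x : G, x • a = a → x • b = b → (∃ k : ℕ, x ^ 2 ^ k = 1) → ∃ y ∈ (P : Subgroup J), (y : G) = x := by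
    rintro x hxa hxb ⟨k, hk⟩
    have hxJ := hinJ x hxa ⟨k, hk⟩
    obtain ⟨Q, hxQ, hQ⟩ := exists_sylow_of_mem (hodd b hba) (z := (⟨x, hxJ⟩ : J)) hxb (k := k) (Subtype.ext hk)
    rw [huniq Q hQ] at hxQ
    exact ⟨_, hxQ, rfl⟩
  -- an involution interchanging `a` and `b`
  obtain ⟨c, hc⟩ : ∃ c : Ω, ((z : J) : G) • c ≠ c := by
    by_contra hcon
    push Not at hcon
    apply hz1'
    apply Subtype.ext
    apply FaithfulSMul.eq_of_smul_eq_smul (α := Ω)
    intro c
    rw [hcon c]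
    exact (one_smul G c).symm
  have hzz : ((z : J) : G) * ((z : J) : G) = 1 := congrArg Subtype.val (hZsq z z.2)
  obtain ⟨g, hga, hgb⟩ := h2 c (((z : J) : G) • c) a b hc.symm hba.symm
  set t : G := g * ((z : J) : G) * g⁻¹ with ht
  have hta : t • a = b := by
    rw [ht, mul_smul, mul_smul, inv_smul_eq_iff.2 hga.symm, hgb]
  have htb : t • b = a := by
    rw [ht, mul_smul, mul_smul, inv_smul_eq_iff.2 hgb.symm, ← mul_smul, ← mul_smul, mul_assoc, hzz, mul_one, hga]
  have htt : t * t = 1 := by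
    rw [ht]
    have h4 : g * ((z : J) : G) * g⁻¹ * (g * ((z : J) : G) * g⁻¹) = g * (((z : J) : G) * ((z : J) : G)) * g⁻¹ := by group
    rw [h4, hzz]; group
  have htinv : t⁻¹ = t := inv_eq_of_mul_eq_one_left htt
  have htfix : ∀ d : Ω, t • d = d → d = g • a ∨ d = g • b := by
    intro d hd
    have h4 : ((z : J) : G) • g⁻¹ • d = g⁻¹ • d := by
      rw [ht, mul_smul, mul_smul, smul_eq_iff_eq_inv_smul] at hd
      exact hd
    rcases hfixz z (hZP z z.2) hz1' _ h4 with h5 | h5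
    · left; rw [← h5, smul_inv_smul]
    · right; rw [← h5, smul_inv_smul]
  have htg : t • g • a = g • a := by
    rw [ht, mul_smul, mul_smul, inv_smul_smul, hfix _ (z : J).2]
  -- `t` normalises the group of involutions of `P`
  let E : Subgroup G := R.Z.map J.subtype
  have hE : ∀ x : G, x ∈ E ↔ ∃ y ∈ R.Z, (y : G) = x := fun x => Iff.rfl
  have htE : ∀ x ∈ E, t * x * t⁻¹ ∈ E := by
    rintro _ ⟨y, hy, rfl⟩
    have hya : (y : G) • a = a := hfix y y.2
    have hyb : (y : G) • b = b := hPB (hZP y hy)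
    have hyy : (y : G) * (y : G) = 1 := congrArg Subtype.val (hZsq y hy)
    have hsq : (t * (y : G) * t⁻¹) * (t * (y : G) * t⁻¹) = 1 := by
      have h4 : (t * (y : G) * t⁻¹) * (t * (y : G) * t⁻¹) = t * ((y : G) * y) * t⁻¹ := by group
      rw [h4, hyy]; group
    obtain ⟨w, hw, hwe⟩ := hinP (t * (y : G) * t⁻¹) (by
      rw [htinv, mul_smul, mul_smul, hta, hyb, htb]) (by
      rw [htinv, mul_smul, mul_smul, htb, hya, hta]) ⟨1, by rw [pow_one, pow_two]; exact hsq⟩
    refine ⟨w, ?_, hwe⟩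
    have hwT : w ∈ R.T := by rw [hT]; exact hw
    refine (R.mem_Z_iff hwT).2 (Subtype.ext ?_)
    change (w : G) * w = 1
    rw [hwe, hsq]
  have hEcomm : ∀ x ∈ E, ∀ y ∈ E, x * y = y * x := by
    rintro _ ⟨x, hx, rfl⟩ _ ⟨y, hy, rfl⟩
    exact congrArg Subtype.val (R.Z_central hx (R.Z_le_T hy))
  have hEsq : ∀ x ∈ E, x * x = 1 := by
    rintro _ ⟨x, hx, rfl⟩
    exact congrArg Subtype.val (hZsq x hx)
  have hEcard : 8 ≤ Nat.card E := by
    have h4 : Nat.card E = Nat.card R.Z :=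
      (Nat.card_congr (R.Z.equivMapOfInjective _ J.subtype_injective).toEquiv).symm
    rw [h4]; exact hZcard
  have hEfix : ∀ x ∈ E, x ≠ 1 → ∀ c : Ω, x • c = c → c = a ∨ c = b := by
    rintro _ ⟨x, hx, rfl⟩ hx1 c hc
    exact hfixz x (hZP x hx) (fun h => hx1 (by rw [h]; rfl)) c hc
  -- the map `x ↦ x * x^t`
  let f : E →* E :=
    { toFun := fun x => ⟨(x : G) * (t * x * t⁻¹), mul_mem x.2 (htE x x.2)⟩
      map_one' := by
        apply Subtype.ext
        change (1 : G) * (t * 1 * t⁻¹) = 1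
        group
      map_mul' := by
        intro x y
        apply Subtype.ext
        change (x : G) * y * (t * (x * y) * t⁻¹) = x * (t * x * t⁻¹) * (y * (t * y * t⁻¹))
        have h4 := hEcomm _ y.2 _ (htE x x.2)
        calc (x : G) * y * (t * (x * y) * t⁻¹) = x * (y * (t * x * t⁻¹)) * (t * y * t⁻¹) := by group
          _ = x * (t * x * t⁻¹) * (y * (t * y * t⁻¹)) := by rw [h4]; group }
  have hker : ∀ x : E, x ∈ f.ker → t * (x : G) = x * t := by
    intro x hx
    have h4 : (x : G) * (t * x * t⁻¹) = 1 := congrArg Subtype.val hx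
    have h5 : (t * x * t⁻¹) = x := by
      have h6 := hEsq x x.2
      exact mul_left_cancel (h4.trans h6.symm)
    rw [mul_inv_eq_iff_eq_mul] at h5
    exact h5
  have hran : ∀ x : E, x ∈ f.range → t * (x : G) = x * t := by
    rintro _ ⟨x, rfl⟩
    change t * ((x : G) * (t * x * t⁻¹)) = (x : G) * (t * x * t⁻¹) * t
    have h4 := hEcomm _ x.2 _ (htE x x.2)
    have h5 : t * ((x : G) * (t * x * t⁻¹)) = (t * x * t⁻¹) * (t * t) * x * t⁻¹ := by group
    rw [h5, htt, mul_one, ← h4, htinv]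
  have hprod : Nat.card E = Nat.card f.ker * Nat.card f.range := by
    rw [← Nat.card_congr (QuotientGroup.quotientKerEquivRange f).toEquiv, mul_comm]
    exact Subgroup.card_eq_card_quotient_mul_card_subgroup _
  -- two different nontrivial elements commuting with `t`
  have hC : ∃ x ∈ E, ∃ y ∈ E, x ≠ 1 ∧ y ≠ 1 ∧ x ≠ y ∧ t * x = x * t ∧ t * y = y * t := by
    have h4 : 3 ≤ Nat.card f.ker ∨ 3 ≤ Nat.card f.range := by
      by_contra hcon
      push Not at hcon
      have h5 : Nat.card f.ker ≤ 2 := by omega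
      have h6 : Nat.card f.range ≤ 2 := by omega
      have := Nat.mul_le_mul h5 h6
      omega
    have key : ∀ C : Subgroup E, 3 ≤ Nat.card C → (∀ x : E, x ∈ C → t * (x : G) = x * t) →
        ∃ x ∈ E, ∃ y ∈ E, x ≠ 1 ∧ y ≠ 1 ∧ x ≠ y ∧ t * x = x * t ∧ t * y = y * t := by
      intro C hC hCt
      have hfin := Fintype.ofFinite C
      rw [Nat.card_eq_fintype_card] at hC
      obtain ⟨x, y, w, hxy, hxw, hyw⟩ := Fintype.two_lt_card_iff.1 hC
      have aux : ∀ u v : C, u ≠ v → u ≠ 1 → v ≠ 1 → ∃ x ∈ E, ∃ y ∈ E, x ≠ 1 ∧ y ≠ 1 ∧ x ≠ y ∧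
          t * x = x * t ∧ t * y = y * t := by
        intro u v huv hu hv
        refine ⟨_, (u : E).2, _, (v : E).2, ?_, ?_, ?_, hCt u u.2, hCt v v.2⟩
        · intro h; exact hu (Subtype.ext (Subtype.ext h))
        · intro h; exact hv (Subtype.ext (Subtype.ext h))
        · intro h; exact huv (Subtype.ext (Subtype.ext h))
      by_cases hx : x = 1
      · exact aux y w hyw (fun h => hxy (hx.trans h.symm)) (fun h => hxw (hx.trans h.symm))
      · by_cases hy : y = 1
        · exact aux x w hxw hx (fun h => hyw (hy.trans h.symm))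
        · exact aux x y hxy hx hy
    rcases h4 with h4 | h4
    · exact key _ h4 hker
    · exact key _ h4 hran
  obtain ⟨x, hx, y, hy, hx1, hy1, hxy, htx, hty⟩ := hC
  have hgane : g • a ≠ a ∧ g • a ≠ b := by
    constructor
    · intro h
      rw [h, hta] at htg
      exact hba htg
    · intro h
      rw [h, htb] at htg
      exact hba htg.symm
  have hmove : ∀ w ∈ E, w ≠ 1 → t * w = w * t → w • g • a = g • b := by
    intro w hw hw1 htw
    have h4 : t • w • g • a = w • g • a := by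
      rw [← mul_smul, htw, mul_smul, htg]
    rcases htfix _ h4 with h5 | h5
    · exfalso
      rcases hEfix w hw hw1 _ h5 with h6 | h6
      · exact hgane.1 h6
      · exact hgane.2 h6
    · exact h5
  have h4 := hmove x hx hx1 htx
  have h5 := hmove y hy hy1 hty
  have h6 : (x⁻¹ * y) • g • a = g • a := by
    rw [mul_smul, h5, ← h4, inv_smul_smul]
  rcases hEfix (x⁻¹ * y) (mul_mem (inv_mem hx) hy) (fun h => hxy (inv_mul_eq_one.1 h)) _ h6 with h7 | h7
  · exact hgane.1 h7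
  · exact hgane.2 h7

end

end Cfsg.Agent.H322.Tri
end
end
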